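import Groth.Agent.S1412
import Groth.Agent.S2470
import Groth.Agent.FlatB.Olivier
import Mathlib.RingTheory.Idempotents

/-!
# Weakly etale morphisms preserve regularity and the dimension of local rings
-/

set_option autoImplicit false

universe u

open CategoryTheory CategoryTheory.Limits AlgebraicGeometry TensorProduct IsLocalRing

namespace K984.WeakReg

theorem eq_zero_or_one_of_idem {C : Type u} [CommRing C] [IsLocalRing C] (e : C) (h : e * e = e) : e = 0 ∨ e = 1 := by
  have h1 : e * (1 - e) = 0 := by rw [mul_sub, mul_one, h, sub_self]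
  rcases IsLocalRing.isUnit_or_isUnit_one_sub_self e with hu | hu
  · right
    have := hu.mul_right_eq_zero.mp h1
    exact (sub_eq_zero.mp this).symm
  · left
    exact hu.mul_left_eq_zero.mp h1

section
variable (A B : Type u) [CommRing A] [IsLocalRing A] [CommRing B] [IsLocalRing B] [Algebra A B]
  [IsLocalHom (algebraMap A B)] [Algebra.WeaklyEtale A B]

/-- The closed fibre of a weakly etale local homomorphism of local rings is a field. -/
theorem isField_fibre : IsField (B ⧸ (maximalIdeal A).map (algebraMap A B)) := by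
  have hne : (maximalIdeal A).map (algebraMap A B) ≠ ⊤ := by
    intro h
    have h1 : (maximalIdeal A).map (algebraMap A B) ≤ maximalIdeal B := by
      have h0 : IsLocalHom (algebraMap A B) := inferInstance
      exact ((local_hom_TFAE (algebraMap A B)).out 0 2).mp h0
    exact (maximalIdeal.isMaximal B).ne_top (top_le_iff.mp (h ▸ h1))
  have hnt : Nontrivial (B ⧸ (maximalIdeal A).map (algebraMap A B)) := Ideal.Quotient.nontrivial_iff.mpr hne
  have hloc : IsLocalRing (B ⧸ (maximalIdeal A).map (algebraMap A B)) :=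
    IsLocalRing.of_surjective' (Ideal.Quotient.mk _) Ideal.Quotient.mk_surjective
  let e₁ : (B ⧸ (maximalIdeal A).map (algebraMap A B)) ≃ₐ[B] B ⊗[A] (A ⧸ maximalIdeal A) :=
    Algebra.TensorProduct.quotIdealMapEquivTensorQuot B (maximalIdeal A)
  let e : (ResidueField A ⊗[A] B) ≃+* (B ⧸ (maximalIdeal A).map (algebraMap A B)) :=
    (Algebra.TensorProduct.comm A (ResidueField A) B).toRingEquiv.trans e₁.symm.toRingEquiv
  have hnt' : Nontrivial (ResidueField A ⊗[A] B) := e.toEquiv.nontrivial
  have hf : IsField (ResidueField A ⊗[A] B) := by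
    refine Groth.Agent.FlatB.Olivier.isField_of_weaklyEtale_field (ResidueField A) _ fun x hx => ?_
    have := eq_zero_or_one_of_idem (e x) (by rw [← map_mul, hx])
    rcases this with h | h
    · left; exact e.injective (by rw [h, map_zero])
    · right; exact e.injective (by rw [h, map_one])
  exact MulEquiv.isField hf e.symm.toMulEquiv

theorem regular [IsNoetherianRing A] [IsNoetherianRing B] (hA : IsRegularLocalRing A) :
    IsRegularLocalRing B ∧ ringKrullDim B = ringKrullDim A := by
  have hf := isField_fibre A B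
  letI := hf.toField
  have hr : IsRegularLocalRing (B ⧸ (maximalIdeal A).map (algebraMap A B)) := inferInstance
  have h3 := Groth.Agent.S2470.result (A := A) (B := B)
  have h5 : IsRegularLocalRing A ∧ IsRegularLocalRing (B ⧸ (maximalIdeal A).map (algebraMap A B)) ∧ Module.Flat A B :=
    ⟨hA, hr, inferInstance⟩
  have h2 : IsRegularLocalRing B ∧ IsRegularLocalRing (B ⧸ (maximalIdeal A).map (algebraMap A B)) ∧ Module.Flat A B :=
    (h3.out 2 1).mp h5
  have h4 : IsRegularLocalRing A ∧ IsRegularLocalRing (B ⧸ (maximalIdeal A).map (algebraMap A B)) ∧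
       ringKrullDim B = ringKrullDim A + ringKrullDim (B ⧸ (maximalIdeal A).map (algebraMap A B)) :=
    (h3.out 2 3).mp h5
  refine ⟨h2.1, ?_⟩
  rw [h4.2.2, ringKrullDim_eq_zero_of_isField hf, add_zero]

end

theorem regular_of_weaklyEtale {Y Y' : Scheme.{u}} (q : Y' ⟶ Y) [WeaklyEtale q] [IsLocallyNoetherian Y']
    (hY : ∀ y : Y, IsRegularLocalRing (Y.presheaf.stalk y) ∧ ringKrullDim (Y.presheaf.stalk y) ≤ 2) (y : Y') :
    IsRegularLocalRing (Y'.presheaf.stalk y) ∧ ringKrullDim (Y'.presheaf.stalk y) ≤ 2 := by
  obtain ⟨h1, h2⟩ := (Groth.Agent.S1412.result q).mp inferInstance y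
  letI := (q.stalkMap y).hom.toAlgebra
  have hl : IsLocalHom (algebraMap (Y.presheaf.stalk (q y)) (Y'.presheaf.stalk y)) := by
    change IsLocalHom (q.stalkMap y).hom
    infer_instance
  have hw : Algebra.WeaklyEtale (Y.presheaf.stalk (q y)) (Y'.presheaf.stalk y) :=
    { flat := h1
      flat_lmul' := h2 }
  have hreg := (hY (q y)).1
  obtain ⟨h3, h4⟩ := regular (Y.presheaf.stalk (q y)) (Y'.presheaf.stalk y) hreg
  exact ⟨h3, h4.trans_le (hY (q y)).2⟩

end K984.WeakReg
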